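import Groth.Agent.L06.TwistBC.Mates
import Groth.Agent.L18.GrMod.CoeffBaseChange
import Groth.Agent.L18.RelTilde.Restrict
import Groth.Agent.L18.PBundle.BaseTwist
import Mathlib.Algebra.Category.Ring.Constructions
import Mathlib.RingTheory.IsTensorProduct

/-!
# `O(n)` of a base change is the inverse image of `O(n)`
-/

set_option autoImplicit false
set_option linter.style.haveILetI false
set_option backward.isDefEq.respectTransparency false
set_option backward.isDefEq.respectTransparency.types false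

noncomputable section

universe u

open CategoryTheory AlgebraicGeometry TopologicalSpace Opposite
open scoped HomogeneousIdeal
open Groth.L18
open Groth.L18.PBundle
open Groth.L18.RelTilde (rdT)
open private rdT_pullSec from Groth.Agent.L18.PBundle.BaseTwist

namespace Groth.L06.TwistBC

local notation "Φ[" f "]" => Adjunction.homEquiv (Scheme.Modules.pullbackPushforwardAdjunction f)

set_option maxHeartbeats 800000 in
/-- For graded rings: the twist of an extension of coefficients is the inverse image of the twist. -/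
theorem isIso_comap_aux {A B R' R : Type u} [CommRing A] [CommRing B] [CommRing R'] [CommRing R]
    [Algebra R' R] [Algebra R' A] [Algebra R B] [Algebra R' B] [IsScalarTower R' R B]
    {σ τ : Type u} [SetLike σ A] [AddSubgroupClass σ A]
    [SetLike τ B] [AddSubgroupClass τ B] {𝒜 : ℕ → σ} [GradedRing 𝒜] {ℬ : ℕ → τ} [GradedRing ℬ] (φ : 𝒜 →+*ᵍ ℬ)
    (l : A →ₗ[R'] B) (hl : ∀ a, l a = φ a) (hbc : IsBaseChange R l)
    (hA0 : ∀ r, algebraMap R' A r ∈ 𝒜 0) (hB0 : ∀ r, algebraMap R B r ∈ ℬ 0)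
    (h0 : ∀ r, φ (algebraMap R' A r) = algebraMap R' B r) (hirr : ℬ₊ ≤ (𝒜₊).map φ) (n : ℤ) :
    IsIso ((Φ[Proj.map φ hirr] (GrTwist.twist 𝒜 n) (GrTwist.twist ℬ n)).symm (GrTwist.comap φ hirr n)) := by
  rw [GrM.CBC.comap_twist_eq φ hirr n]
  exact GrM.CBC.isIso_adjunct_comap (R' := R') (R := R) φ hirr l hl hbc hA0 hB0 h0 n

/-- The same with the coefficients given by a pushout square. -/
theorem isIso_comap_of_isPushout {A B R' R : Type u} [CommRing A] [CommRing B] [CommRing R'] [CommRing R]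
    {σ τ : Type u} [SetLike σ A] [AddSubgroupClass σ A]
    [SetLike τ B] [AddSubgroupClass τ B] {𝒜 : ℕ → σ} [GradedRing 𝒜] {ℬ : ℕ → τ} [GradedRing ℬ] (φ : 𝒜 →+*ᵍ ℬ)
    (a : R' →+* R) (s : R' →+* A) (t : R →+* B) (f : A →+* B) (hf : ∀ x, f x = φ x)
    (hpo : IsPushout (CommRingCat.ofHom a) (CommRingCat.ofHom s) (CommRingCat.ofHom t) (CommRingCat.ofHom f))
    (hA0 : ∀ r, s r ∈ 𝒜 0) (hB0 : ∀ r, t r ∈ ℬ 0) (hirr : ℬ₊ ≤ (𝒜₊).map φ) (n : ℤ) :
    IsIso ((Φ[Proj.map φ hirr] (GrTwist.twist 𝒜 n) (GrTwist.twist ℬ n)).symm (GrTwist.comap φ hirr n)) := by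
  letI := a.toAlgebra
  letI := s.toAlgebra
  letI := t.toAlgebra
  letI := f.toAlgebra
  letI : Algebra R' B := (t.comp a).toAlgebra
  haveI : IsScalarTower R' R B := IsScalarTower.of_algebraMap_eq fun _ => rfl
  haveI : IsScalarTower R' A B := IsScalarTower.of_algebraMap_eq fun r => congr($(hpo.w) r)
  haveI hp : Algebra.IsPushout R' R A B := CommRingCat.isPushout_iff_isPushout.1 hpo
  exact isIso_comap_aux φ (IsScalarTower.toAlgHom R' A B).toLinearMap (fun x => hf x) hp.out hA0 hB0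
    (fun r => (hf _).symm.trans (IsScalarTower.algebraMap_apply R' A B r).symm) hirr n

variable {S S' P P' : Scheme.{u}} {ψ : S' ⟶ S} {𝒮 : RelProj.QCGrAlg S} {𝒮' : RelProj.QCGrAlg S'}
  {p : P ⟶ S} {p' : P' ⟶ S'}
  {chart : ∀ (U : S.Opens) (hU : IsAffineOpen U), (((p ⁻¹ᵁ U : P.Opens) : Scheme.{u}) ≅ Proj (𝒮.deg U hU))}
  {chart' : ∀ (U' : S'.Opens) (hU' : IsAffineOpen U'), (((p' ⁻¹ᵁ U' : P'.Opens) : Scheme.{u}) ≅ Proj (𝒮'.deg U' hU'))}
  {u : RelProj.QGrHom ψ 𝒮 𝒮'} {g : P' ⟶ P} {n : ℤ}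
  {L : P.Modules} {lam : ∀ (U : S.Opens) (hU : IsAffineOpen U),
    L ⟶ (Scheme.Modules.pushforward (RelProj.emb p chart U hU)).obj (GrTwist.twist (𝒮.deg U hU) n)}
  {L' : P'.Modules} {lam' : ∀ (U' : S'.Opens) (hU' : IsAffineOpen U'),
    L' ⟶ (Scheme.Modules.pushforward (RelProj.emb p' chart' U' hU')).obj (GrTwist.twist (𝒮'.deg U' hU') n)}

theorem irr_congr {U : S.Opens} {hU : IsAffineOpen U} {U' : S'.Opens} {hU' : IsAffineOpen U'}
    {φ φ' : 𝒮.deg U hU →+*ᵍ 𝒮'.deg U' hU'} (e : φ = φ') (h : (𝒮'.deg U' hU')₊ ≤ ((𝒮.deg U hU)₊).map φ) :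
    (𝒮'.deg U' hU')₊ ≤ ((𝒮.deg U hU)₊).map φ' :=
  e ▸ h

theorem emb_congr {U : S.Opens} {hU : IsAffineOpen U} {U' : S'.Opens} {hU' : IsAffineOpen U'}
    {φ φ' : 𝒮.deg U hU →+*ᵍ 𝒮'.deg U' hU'} (e : φ = φ') (h : (𝒮'.deg U' hU')₊ ≤ ((𝒮.deg U hU)₊).map φ)
    (p' : P' ⟶ S')
    (chart' : ∀ (U' : S'.Opens) (hU' : IsAffineOpen U'), (((p' ⁻¹ᵁ U' : P'.Opens) : Scheme.{u}) ≅ Proj (𝒮'.deg U' hU')))
    (g : P' ⟶ P) (j : Proj (𝒮.deg U hU) ⟶ P)
    (hg : (p' ⁻¹ᵁ U').ι ≫ g = (chart' U' hU').hom ≫ Proj.map φ h ≫ j) :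
    RelProj.emb p' chart' U' hU' ≫ g = Proj.map φ' (irr_congr e h) ≫ j := by
  subst e
  rw [RelProj.emb, Category.assoc, hg, Iso.inv_hom_id_assoc]

theorem isIso_chart_adjunct (hL : RelProj.IsRelTwist 𝒮 p chart n L lam) (U : S.Opens) (hU : IsAffineOpen U) :
    IsIso ((Φ[RelProj.emb p chart U hU] L _).symm (lam U hU)) :=
  isIso_adjunct_of_bijective _ _ (RelTilde.isIso_adjoint _ _ fun W hW =>
    hL.bijective U hU W (hW.trans (RP.opensRange_emb U hU).le))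

theorem isIso_restrict_pullHom (hg : IsInduced u p chart p' chart' g) (hP : RelProj.IsRelProj 𝒮 p chart)
    (hP' : RelProj.IsRelProj 𝒮' p' chart') (hL : RelProj.IsRelTwist 𝒮 p chart n L lam)
    (hL' : RelProj.IsRelTwist 𝒮' p' chart' n L' lam') (hbc : RelSpec.IsQBaseChange u.toQHom)
    (U : S.Opens) (hU : IsAffineOpen U) (U' : S'.Opens) (hU' : IsAffineOpen U') (hle : U' ≤ ψ ⁻¹ᵁ U) :
    IsIso ((Scheme.Modules.restrictFunctor (RelProj.emb p' chart' U' hU')).map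
      ((Φ[g] L L').symm (pullHom hg hP hP' hL hL'))) := by
  refine isIso_restrict_adjunct g (RelProj.emb p' chart' U' hU') (RelProj.emb p chart U hU)
    (Proj.map (u.gradedAt U hU U' hU' hle) (hg.irr ⟨(⟨U, hU⟩, ⟨U', hU'⟩), hle⟩))
    (hg.emb_comp ⟨(⟨U, hU⟩, ⟨U', hU'⟩), hle⟩) (pullHom hg hP hP' hL hL') (lam U hU) (lam' U' hU')
    (GrTwist.comap (u.gradedAt U hU U' hU' hle) (hg.irr ⟨(⟨U, hU⟩, ⟨U', hU'⟩), hle⟩) n) (isIso_chart_adjunct hL U hU)
    (isIso_chart_adjunct hL' U' hU')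
    (isIso_comap_of_isPushout (u.gradedAt U hU U' hU' hle) (ψ.appLE U U' hle).hom (𝒮.str.app (op U)).hom
      (𝒮'.str.app (op U')).hom (u.appLE U U' hle).hom (fun _ => rfl) (hbc U hU U' hU' hle)
      (𝒮.str_mem U hU) (𝒮'.str_mem U' hU') (hg.irr ⟨(⟨U, hU⟩, ⟨U', hU'⟩), hle⟩) n) ?_
  refine Scheme.Modules.hom_ext _ _ fun W => ?_
  ext s
  refine GrM.sectN_ext fun y => ?_
  simp only [Scheme.Modules.Hom.comp_app, ConcreteCategory.comp_apply,
    Scheme.Modules.pushforwardCongr_hom_app_app]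
  exact congrArg (fun t : GrTwist.sectN (𝒜 := 𝒮'.deg U' hU') n
    (op (RelProj.emb p' chart' U' hU' ⁻¹ᵁ (g ⁻¹ᵁ W))) =>
    ((t.1 ⟨y.1, show g.base ((RelProj.emb p' chart' U' hU').base y.1) ∈ W by
      rw [← Scheme.Hom.comp_apply, hg.emb_comp ⟨(⟨U, hU⟩, ⟨U', hU'⟩), hle⟩]; exact y.2⟩ : GrTwist.twistAt (𝒮'.deg U' hU') n y.1) :
      GrTwist.Loc (𝒮'.deg U' hU') y.1))
    (rdT_pullSec hg hP hP' hL hL' (show Γ(L, W) from s) ⟨(⟨U, hU⟩, ⟨U', hU'⟩), hle⟩)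

/-- The inverse image of `O(n)` along the base change of a relative `Proj`. -/
theorem isIso_adjunct_pullHom (hg : IsInduced u p chart p' chart' g) (hP : RelProj.IsRelProj 𝒮 p chart)
    (hP' : RelProj.IsRelProj 𝒮' p' chart') (hL : RelProj.IsRelTwist 𝒮 p chart n L lam)
    (hL' : RelProj.IsRelTwist 𝒮' p' chart' n L' lam') (hbc : RelSpec.IsQBaseChange u.toQHom) :
    IsIso ((Φ[g] L L').symm (pullHom hg hP hP' hL hL')) := by
  haveI : ∀ k : RSGlue.Pair ψ, IsOpenImmersion (RelProj.emb p' chart' k.U' k.hU') :=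
    fun k => RelProj.isOpenImmersion_emb p' chart' k.U' k.hU'
  refine Groth.L21.Mod.isIso_of_restrict (fun k : RSGlue.Pair ψ => RelProj.emb p' chart' k.U' k.hU')
    (fun x => ?_) _ (fun k => isIso_restrict_pullHom hg hP hP' hL hL' hbc k.U k.hU k.U' k.hU' k.hle)
  obtain ⟨q, hq, -, -⟩ := RSGlue.exists_pair_le ψ (p'.base x) ⊤ ⊤ trivial trivial
  exact ⟨q, (RP.opensRange_emb (chart := chart') q.U' q.hU').ge hq⟩

end Groth.L06.TwistBC
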