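import Groth.Agent.L21.Mod.Locality
import Mathlib.AlgebraicGeometry.Modules.Sheaf

/-!
# Adjuncts of a map to a direct image, read on charts
-/

set_option autoImplicit false
set_option linter.style.haveILetI false

noncomputable section

universe u

open CategoryTheory AlgebraicGeometry TopologicalSpace Opposite

namespace Groth.L06.TwistBC

local notation "Φ[" f "]" => Adjunction.homEquiv (Scheme.Modules.pullbackPushforwardAdjunction f)

variable {X Y Z : Scheme.{u}}

theorem homEquiv_pullbackComp (f : X ⟶ Y) (g : Y ⟶ Z) {L : Z.Modules} {N : X.Modules}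
    (x : (Scheme.Modules.pullback f).obj ((Scheme.Modules.pullback g).obj L) ⟶ N) :
    Φ[f ≫ g] L N ((Scheme.Modules.pullbackComp f g).inv.app L ≫ x) =
      Φ[g] L _ (Φ[f] _ N x) ≫ (Scheme.Modules.pushforwardComp f g).hom.app N := by
  rw [← Scheme.Modules.conjugateEquiv_pullbackComp_inv f g, Adjunction.homEquiv_unit, Adjunction.homEquiv_unit,
    Adjunction.homEquiv_unit, Functor.map_comp, ← Category.assoc]
  erw [← unit_conjugateEquiv ((Scheme.Modules.pullbackPushforwardAdjunction g).comp
    (Scheme.Modules.pullbackPushforwardAdjunction f)) (Scheme.Modules.pullbackPushforwardAdjunction (f ≫ g))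
    (Scheme.Modules.pullbackComp f g).inv L]
  rw [Adjunction.comp_unit_app, Category.assoc]
  erw [← (conjugateEquiv ((Scheme.Modules.pullbackPushforwardAdjunction g).comp
    (Scheme.Modules.pullbackPushforwardAdjunction f)) (Scheme.Modules.pullbackPushforwardAdjunction (f ≫ g))
    (Scheme.Modules.pullbackComp f g).inv).naturality x]
  simp only [Functor.comp_map, Functor.map_comp, Category.assoc]

theorem homEquiv_congr {f g : X ⟶ Y} (e : f = g) {L : Y.Modules} {N : X.Modules}
    (x : (Scheme.Modules.pullback f).obj L ⟶ N) :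
    Φ[g] L N ((Scheme.Modules.pullbackCongr e.symm).hom.app L ≫ x) =
      Φ[f] L N x ≫ (Scheme.Modules.pushforwardCongr e).hom.app N := by
  subst e
  have h1 : (Scheme.Modules.pushforwardCongr (rfl : f = f)).hom.app N = 𝟙 _ := by
    refine Scheme.Modules.hom_ext _ _ fun U => ?_
    rw [Scheme.Modules.pushforwardCongr_hom_app_app, eqToHom_refl, op_id, CategoryTheory.Functor.map_id]
    rfl
  rw [h1]
  simp [Scheme.Modules.pullbackCongr]

/-- If on a chart the map is the adjunct of an isomorphism then its adjunct is an isomorphism there. -/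
theorem isIso_restrict_adjunct {X' Y' : Scheme.{u}} (g : X ⟶ Y) (j' : X' ⟶ X) [IsOpenImmersion j'] (j : Y' ⟶ Y)
    (φ : X' ⟶ Y') (e : j' ≫ g = φ ≫ j) {L : Y.Modules} {L' : X.Modules} {T : Y'.Modules} {T' : X'.Modules}
    (θ : L ⟶ (Scheme.Modules.pushforward g).obj L') (l : L ⟶ (Scheme.Modules.pushforward j).obj T)
    (l' : L' ⟶ (Scheme.Modules.pushforward j').obj T') (θ₁ : T ⟶ (Scheme.Modules.pushforward φ).obj T')
    (hl : IsIso ((Φ[j] L T).symm l)) (hl' : IsIso ((Φ[j'] L' T').symm l')) (hθ₁ : IsIso ((Φ[φ] T T').symm θ₁))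
    (heq : θ ≫ (Scheme.Modules.pushforward g).map l' ≫ (Scheme.Modules.pushforwardComp j' g).hom.app T' ≫
        (Scheme.Modules.pushforwardCongr e).hom.app T' =
      l ≫ (Scheme.Modules.pushforward j).map θ₁ ≫ (Scheme.Modules.pushforwardComp φ j).hom.app T') :
    IsIso ((Scheme.Modules.restrictFunctor j').map ((Φ[g] L L').symm θ)) := by
  set a := (Φ[g] L L').symm θ with ha
  let x₁ := (Scheme.Modules.pullback j').map a ≫ (Φ[j'] L' T').symm l'
  let x₂ := (Scheme.Modules.pullback φ).map ((Φ[j] L T).symm l) ≫ (Φ[φ] T T').symm θ₁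
  haveI : IsIso x₂ := inferInstance
  have h₁ : Φ[g] L _ (Φ[j'] _ T' x₁) = θ ≫ (Scheme.Modules.pushforward g).map l' := by
    rw [show Φ[j'] _ T' x₁ = a ≫ l' by rw [Adjunction.homEquiv_naturality_left, Equiv.apply_symm_apply],
      Adjunction.homEquiv_naturality_right, ha, Equiv.apply_symm_apply]
  have h₂ : Φ[j] L _ (Φ[φ] _ T' x₂) = l ≫ (Scheme.Modules.pushforward j).map θ₁ := by
    rw [show Φ[φ] _ T' x₂ = (Φ[j] L T).symm l ≫ θ₁ by rw [Adjunction.homEquiv_naturality_left, Equiv.apply_symm_apply],
      Adjunction.homEquiv_naturality_right, Equiv.apply_symm_apply]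
  have key : (Scheme.Modules.pullbackCongr e.symm).hom.app L ≫
      (Scheme.Modules.pullbackComp j' g).inv.app L ≫ x₁ = (Scheme.Modules.pullbackComp φ j).inv.app L ≫ x₂ := by
    apply (Φ[φ ≫ j] L T').injective
    rw [homEquiv_congr e, homEquiv_pullbackComp, homEquiv_pullbackComp, h₁, h₂, Category.assoc, Category.assoc,
      Category.assoc, heq]
  haveI : IsIso x₁ := by
    have : IsIso ((Scheme.Modules.pullbackCongr e.symm).hom.app L ≫
        (Scheme.Modules.pullbackComp j' g).inv.app L ≫ x₁) := by rw [key]; infer_instance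
    haveI := IsIso.of_isIso_comp_left ((Scheme.Modules.pullbackCongr e.symm).hom.app L)
      ((Scheme.Modules.pullbackComp j' g).inv.app L ≫ x₁)
    exact IsIso.of_isIso_comp_left ((Scheme.Modules.pullbackComp j' g).inv.app L) x₁
  haveI : IsIso ((Scheme.Modules.pullback j').map a) :=
    IsIso.of_isIso_comp_right ((Scheme.Modules.pullback j').map a) ((Φ[j'] L' T').symm l')
  exact (NatIso.isIso_map_iff (Scheme.Modules.restrictFunctorIsoPullback j') a).2 inferInstance

/-- A map to a direct image along an open immersion bijective below the image has invertible adjunct. -/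
theorem isIso_adjunct_of_bijective (j : X ⟶ Y) [IsOpenImmersion j] {M : Y.Modules} {N : X.Modules}
    (l : M ⟶ (Scheme.Modules.pushforward j).obj N)
    (h : IsIso (((Scheme.Modules.restrictAdjunction j).homEquiv M N).symm l)) : IsIso ((Φ[j] M N).symm l) := by
  have e : (Scheme.Modules.restrictFunctorIsoPullback j).hom.app M ≫ (Φ[j] M N).symm l =
      ((Scheme.Modules.restrictAdjunction j).homEquiv M N).symm l := by
    apply ((Scheme.Modules.restrictAdjunction j).homEquiv M N).injective
    rw [Equiv.apply_symm_apply]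
    conv_rhs => rw [← (Φ[j] M N).apply_symm_apply l]
    simp only [Scheme.Modules.restrictFunctorIsoPullback]
    rw [Adjunction.homEquiv_unit, Adjunction.homEquiv_unit, Functor.map_comp, ← Category.assoc,
      Adjunction.unit_leftAdjointUniq_hom_app]
  haveI : IsIso ((Scheme.Modules.restrictFunctorIsoPullback j).hom.app M ≫ (Φ[j] M N).symm l) := by rw [e]; exact h
  exact IsIso.of_isIso_comp_left ((Scheme.Modules.restrictFunctorIsoPullback j).hom.app M) _

end Groth.L06.TwistBC
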